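import Mathlib

/-!
# The arithmetic of S3347

Integer vectors `(α, β)` with the same second moments and the same weighted moment as the principal
block of the quotient: either `b = 1`, or two entries degenerate to `(±1, 0)`.
-/

set_option autoImplicit false

namespace H61.S3347

/-- The Engel identity. -/
theorem engel_identity {α β a b : ℂ} (hb : b ≠ 0) (hd : α + β * b ≠ 0) :
    α * ((α + β * a) ^ 2 / (α + β * b)) =
      α ^ 2 + α * β * (a ^ 2 / b) - (b - a) ^ 2 / b * (α ^ 2 * β / (α + β * b)) := by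
  field_simp
  ring

theorem part_identity {α β b : ℂ} (hb1 : 1 + b ≠ 0) (hd : α + β * b ≠ 0) :
    α ^ 2 * β / (α + β * b) - α * β / (1 + b) =
      b / (1 + b) * (α * β * (α - β) / (α + β * b)) := by
  field_simp
  ring

/-- The moments of the two-part column determine everything. -/
theorem weighted_eq {ι : Type*} (S : Finset ι) (α β : ι → ℤ) {a b : ℂ} {k : ℤ}
    (hb : b ≠ 0) (hb1 : 1 + b ≠ 0) (hden : ∀ i ∈ S, (α i : ℂ) + (β i : ℂ) * b ≠ 0)
    (haa : ∑ i ∈ S, (α i) ^ 2 = k + 1) (hab : ∑ i ∈ S, α i * β i = k)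
    (hT : ∑ i ∈ S, (α i : ℂ) * (((α i : ℂ) + (β i : ℂ) * a) ^ 2 / ((α i : ℂ) + (β i : ℂ) * b)) =
      1 + (k : ℂ) * ((1 + a) ^ 2 / (1 + b)))
    (hne : a ≠ b) :
    ∑ i ∈ S, (α i : ℂ) * (β i : ℂ) * ((α i : ℂ) - (β i : ℂ)) / ((α i : ℂ) + (β i : ℂ) * b) = 0 := by
  have haa' : ∑ i ∈ S, (α i : ℂ) ^ 2 = (k : ℂ) + 1 := by exact_mod_cast haa
  have hab' : ∑ i ∈ S, (α i : ℂ) * (β i : ℂ) = (k : ℂ) := by exact_mod_cast hab
  rw [Finset.sum_congr rfl fun i hi => engel_identity hb (hden i hi), Finset.sum_sub_distrib,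
    Finset.sum_add_distrib, ← Finset.sum_mul, ← Finset.mul_sum, haa', hab'] at hT
  have hk : ∑ i ∈ S, (α i : ℂ) ^ 2 * (β i : ℂ) / ((α i : ℂ) + (β i : ℂ) * b) =
      (k : ℂ) / (1 + b) := by
    have hba : (b - a) ^ 2 / b ≠ 0 := div_ne_zero (pow_ne_zero 2 (sub_ne_zero.2 (Ne.symm hne))) hb
    apply mul_left_cancel₀ hba
    rw [show (1 : ℂ) + (k : ℂ) * ((1 + a) ^ 2 / (1 + b)) =
      (k : ℂ) + 1 + (k : ℂ) * (a ^ 2 / b) - (b - a) ^ 2 / b * ((k : ℂ) / (1 + b)) by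
        field_simp; ring] at hT
    linear_combination -hT
  have h2 : b / (1 + b) * ∑ i ∈ S,
      (α i : ℂ) * (β i : ℂ) * ((α i : ℂ) - (β i : ℂ)) / ((α i : ℂ) + (β i : ℂ) * b) = 0 := by
    rw [Finset.mul_sum, ← Finset.sum_congr rfl fun i hi => part_identity hb1 (hden i hi),
      Finset.sum_sub_distrib, ← Finset.sum_div, hk, hab', sub_self]
  exact (mul_eq_zero.1 h2).resolve_left (div_ne_zero hb hb1)

/-- Two entries of opposite sum. -/
theorem two_entries {A₁ B₁ A₂ B₂ b : ℤ} (h1 : A₁ - B₁ = 1) (h2 : A₂ - B₂ = 1)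
    (hs : A₁ + B₁ + (A₂ + B₂) = 0) (hd1 : A₁ + B₁ * b ≠ 0) (hd2 : A₂ + B₂ * b ≠ 0)
    (h : (A₁ * B₁ : ℂ) / ((A₁ : ℂ) + (B₁ : ℂ) * b) + (A₂ * B₂ : ℂ) / ((A₂ : ℂ) + (B₂ : ℂ) * b) = 0) :
    b = 1 ∨ (A₁ = 1 ∧ B₁ = 0) ∨ (A₂ = 1 ∧ B₂ = 0) := by
  have e1 : ((A₁ : ℂ) + (B₁ : ℂ) * b) ≠ 0 := by exact_mod_cast hd1
  have e2 : ((A₂ : ℂ) + (B₂ : ℂ) * b) ≠ 0 := by exact_mod_cast hd2
  rw [div_add_div _ _ e1 e2, div_eq_zero_iff] at h
  have h' := h.resolve_right (mul_ne_zero e1 e2)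
  have hz : A₁ * B₁ * (A₂ + B₂ * b) + (A₁ + B₁ * b) * (A₂ * B₂) = 0 := by exact_mod_cast h'
  have hA1 : A₁ = B₁ + 1 := by omega
  have hB2 : B₂ = -B₁ - 1 := by omega
  have hA2 : A₂ = -B₁ := by omega
  rw [hA1, hB2, hA2] at hz
  have : B₁ * (B₁ + 1) * (1 - b) = 0 := by linear_combination hz
  rcases mul_eq_zero.1 this with h3 | h3
  · rcases mul_eq_zero.1 h3 with h4 | h4
    · exact Or.inr (Or.inl ⟨by omega, h4⟩)
    · exact Or.inr (Or.inr ⟨by omega, by omega⟩)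
  · exact Or.inl (by omega)

/-- If the weighted moment vanishes, some entry is `(±1, 0)`. -/
theorem degenerate_entry {ι : Type*} (S : Finset ι) (α β : ι → ℤ) {b : ℤ} {k : ℤ}
    (hden : ∀ i ∈ S, α i + β i * b ≠ 0) (haa : ∑ i ∈ S, (α i) ^ 2 = k + 1)
    (hab : ∑ i ∈ S, α i * β i = k) (hbb : ∑ i ∈ S, (β i) ^ 2 = k + 1)
    (hw : ∑ i ∈ S, (α i : ℂ) * (β i : ℂ) * ((α i : ℂ) - (β i : ℂ)) /
      ((α i : ℂ) + (β i : ℂ) * (b : ℂ)) = 0) :
    b = 1 ∨ ∃ i ∈ S, (α i = 1 ∨ α i = -1) ∧ β i = 0 := by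
  classical
  set D := S.filter fun i => α i ≠ β i with hD
  have hd2 : ∑ i ∈ D, (α i - β i) ^ 2 = 2 := by
    rw [hD, Finset.sum_filter_of_ne]
    swap
    · intro i _ h he
      apply h
      rw [he]
      ring
    calc ∑ i ∈ S, (α i - β i) ^ 2 = ∑ i ∈ S, ((α i) ^ 2 + (β i) ^ 2 - 2 * (α i * β i)) :=
          Finset.sum_congr rfl fun i _ => by ring
      _ = 2 := by
          rw [Finset.sum_sub_distrib, Finset.sum_add_distrib, ← Finset.mul_sum, haa, hab, hbb]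
          ring
  have hds : ∑ i ∈ D, (α i - β i) * (α i + β i) = 0 := by
    rw [hD, Finset.sum_filter_of_ne]
    swap
    · intro i _ h he
      apply h
      rw [he]
      ring
    calc ∑ i ∈ S, (α i - β i) * (α i + β i) = ∑ i ∈ S, ((α i) ^ 2 - (β i) ^ 2) :=
          Finset.sum_congr rfl fun i _ => by ring
      _ = 0 := by rw [Finset.sum_sub_distrib, haa, hbb, sub_self]
  have hw' : ∑ i ∈ D, (α i : ℂ) * (β i : ℂ) * ((α i : ℂ) - (β i : ℂ)) /
      ((α i : ℂ) + (β i : ℂ) * (b : ℂ)) = 0 := by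
    rw [hD, Finset.sum_filter_of_ne]
    swap
    · intro i _ h he
      apply h
      rw [he]
      simp
    exact hw
  have h1 : ∀ i ∈ D, 1 ≤ (α i - β i) ^ 2 := fun i hi =>
    (pow_pos_iff_ne_zero_of_even i hi : 0 < (α i - β i) ^ 2)
  have hcard : D.card = 2 := by
    have hle : (D.card : ℤ) ≤ 2 := by
      rw [← hd2]
      calc (D.card : ℤ) = ∑ _i ∈ D, (1 : ℤ) := by simp
        _ ≤ _ := Finset.sum_le_sum h1
    rcases (show D.card = 0 ∨ D.card = 1 ∨ D.card = 2 by omega) with h | h | h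
    · rw [Finset.card_eq_zero.1 h] at hd2
      simp at hd2
    · obtain ⟨i, hi⟩ := Finset.card_eq_one.1 h
      rw [hi, Finset.sum_singleton] at hd2
      have h3 : (α i - β i).natAbs * (α i - β i).natAbs = 2 := by
        rw [← Int.natAbs_mul]
        rw [pow_two] at hd2
        rw [hd2]
        rfl
      generalize (α i - β i).natAbs = m at h3
      rcases (show m = 0 ∨ m = 1 ∨ 2 ≤ m by omega) with rfl | rfl | h4
      · omega
      · omega
      · have := Nat.mul_le_mul h4 h4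
        omega
    · exact h
  obtain ⟨i, j, hij, hDij⟩ := Finset.card_eq_two.1 hcard
  have hiD : i ∈ D := by rw [hDij]; simp
  have hjD : j ∈ D := by rw [hDij]; simp
  rw [hDij, Finset.sum_pair hij] at hd2 hds hw'
  have hsi : α i - β i = 1 ∨ α i - β i = -1 := sq_one (h1 i hiD) (h1 j hjD) hd2
  have hsj : α j - β j = 1 ∨ α j - β j = -1 :=
    sq_one (h1 j hjD) (h1 i hiD) (by rw [← hd2]; ring)
  obtain ⟨s, hs, hs'⟩ : ∃ s : ℤ, (s = 1 ∨ s = -1) ∧ α i - β i = s := ⟨_, hsi, rfl⟩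
  obtain ⟨u, hu, hu'⟩ : ∃ u : ℤ, (u = 1 ∨ u = -1) ∧ α j - β j = u := ⟨_, hsj, rfl⟩
  have hs2 : s * s = 1 := by rcases hs with rfl | rfl <;> norm_num
  have hu2 : u * u = 1 := by rcases hu with rfl | rfl <;> norm_num
  have hiS : i ∈ S := (Finset.mem_filter.1 hiD).1
  have hjS : j ∈ S := (Finset.mem_filter.1 hjD).1
  have key := two_entries (A₁ := s * α i) (B₁ := s * β i) (A₂ := u * α j) (B₂ := u * β j) (b := b)
    (by rw [← mul_sub, hs', hs2]) (by rw [← mul_sub, hu', hu2])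
    (by rw [← hs', ← hu']; linear_combination hds)
    (by rw [mul_assoc, ← mul_add]; exact mul_ne_zero (by rcases hs with rfl | rfl <;> omega) (hden i hiS))
    (by rw [mul_assoc, ← mul_add]; exact mul_ne_zero (by rcases hu with rfl | rfl <;> omega) (hden j hjS))
    (by
      have hs0 : (s : ℂ) ≠ 0 := by rcases hs with rfl | rfl <;> norm_num
      have hu0 : (u : ℂ) ≠ 0 := by rcases hu with rfl | rfl <;> norm_num
      rw [← hw']
      push_cast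
      rw [show (α i : ℂ) - (β i : ℂ) = (s : ℂ) by exact_mod_cast hs',
        show (α j : ℂ) - (β j : ℂ) = (u : ℂ) by exact_mod_cast hu',
        mul_assoc (s : ℂ) (β i : ℂ), ← mul_add (s : ℂ), mul_assoc (u : ℂ) (β j : ℂ), ← mul_add (u : ℂ),
        mul_assoc (s : ℂ) (α i : ℂ), mul_div_mul_left _ _ hs0,
        mul_assoc (u : ℂ) (α j : ℂ), mul_div_mul_left _ _ hu0]
      ring)
  rcases key with h | ⟨h3, h4⟩ | ⟨h3, h4⟩
  · exact Or.inl h
  · refine Or.inr ⟨i, hiS, ?_, ?_⟩ <;> rcases hs with rfl | rfl <;> omega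
  · refine Or.inr ⟨j, hjS, ?_, ?_⟩ <;> rcases hu with rfl | rfl <;> omega
where
  pow_pos_iff_ne_zero_of_even (i : ι) (hi : i ∈ S.filter fun i => α i ≠ β i) :
      0 < (α i - β i) ^ 2 := by
    have : α i - β i ≠ 0 := sub_ne_zero.2 (Finset.mem_filter.1 hi).2
    positivity
  sq_one {x y : ℤ} (h1 : 1 ≤ x ^ 2) (h2 : 1 ≤ y ^ 2) (h : x ^ 2 + y ^ 2 = 2) : x = 1 ∨ x = -1 :=
    sq_eq_one_iff.1 (by omega)

end H61.S3347
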