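import Cfsg.Agent.H20.FreeAction
import Cfsg.Prelude.Def_Blocks
import Cfsg.Prelude.Def_Local
import Cfsg.Prelude.Def_Transfer

/-!
# Interfaces for S3347 (abelian noncyclic Sylow subgroup with inertial index two)

Route (all character theory, no modules): replace `G` by `G / O_{p'}(G)`; the focal subgroup theorem
makes `P` inverted. A bilinear form on `P / Φ(P)` transfers to a central extension by a group of
order `p` contained in the derived group (`CoverStmt`). In the principal block of the extension the
characters over a nontrivial character of the centre are described on `p`-regular elements by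
`A + B δλ`; comparing the pairs of involutions with product in the centre times a regular element
gives `δλ(1) = 1` or `δλ(t) = δλ(1)` for every involution `t` (`CoreStmt`). So `λ` is linear with
kernel containing `P`, and Burnside's transfer finishes.
-/

set_option autoImplicit false

open Cfsg Subgroup

namespace H61.S3347

universe u

/-- A central extension by a group of order `p` inside the derived group. -/
def Cover (G : Type u) [Group G] (p : ℕ) : Prop :=
  ∃ (E : Type u) (_ : Group E) (_ : Finite E) (π : E →* G), Function.Surjective π ∧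
    π.ker ≤ center E ∧ Nat.card π.ker = p ∧ π.ker ≤ commutator E

/-- Part (B): the transferred extension. -/
def CoverStmt : Prop :=
  ∀ (G : Type u) [Group G] [Finite G] (p : ℕ) [Fact p.Prime], p ≠ 2 → ∀ P : Sylow p G,
    (∀ a ∈ (P : Subgroup G), ∀ b ∈ (P : Subgroup G), a * b = b * a) →
    ¬ IsCyclic (P : Subgroup G) →
    (∀ n ∈ normalizer ((P : Subgroup G) : Set G),
      (∀ x ∈ (P : Subgroup G), n * x * n⁻¹ = x) ∨ ∀ x ∈ (P : Subgroup G), n * x * n⁻¹ = x⁻¹) →
    Cover G p

/-- Part (A): the character theoretic core. -/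
def CoreStmt : Prop :=
  ∀ (G : Type u) [Group G] [Finite G] (p : ℕ) [Fact p.Prime], p ≠ 2 → ∀ P : Sylow p G,
    H20.FreeSylow P → Nat.card (H20.autG (P : Subgroup G)) = 2 → Cover G p →
    ∃ (l : IrrCharacter G) (δ : ℤ), (δ = 1 ∨ δ = -1) ∧ (l : G → ℂ) ≠ (fun _ => 1) ∧
      (∀ g : G, p ∣ orderOf g → (l : G → ℂ) g = (δ : ℂ)) ∧
      (Nat.card (P : Subgroup G) : ℤ) ∣ δ * (charDegree (l : G → ℂ) : ℤ) - 1 ∧
      (δ * (charDegree (l : G → ℂ) : ℤ) = 1 ∨
        ∀ t : G, orderOf t = 2 → (l : G → ℂ) t = (charDegree (l : G → ℂ) : ℂ))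

/-- The statement S3347. -/
def Goal : Prop :=
  ∀ (G : Type u) [Group G] [Finite G] (p : ℕ) [Fact p.Prime], p ≠ 2 → ∀ P : Sylow p G,
    IsMulCommutative (P : Subgroup G) → ¬ IsCyclic (P : Subgroup G) →
    ((centralizer ((P : Subgroup G) : Set G)).subgroupOf
      (normalizer ((P : Subgroup G) : Set G))).index = 2 →
    Cfsg.pResidual p G ≠ ⊤ ∨ Cfsg.PLengthLE p 1 G

/-- Part (C): reduction and end. -/
def FinishStmt : Prop := CoverStmt.{u} → CoreStmt.{u} → Goal.{u}

end H61.S3347
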